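import Cfsg.Agent.H6.HNR.Inv
import Cfsg.Agent.H6.HNR.N.Main

set_option autoImplicit false
set_option maxRecDepth 100000
set_option Elab.async false

namespace Cfsg.H6.HNR.NI

def sg : List (List ℕ) := [[], [nat_lit 2, nat_lit 2, nat_lit 2, nat_lit 2], [nat_lit 4, nat_lit 2, nat_lit 2, nat_lit 2, nat_lit 2, nat_lit 4], [nat_lit 1, nat_lit 2, nat_lit 4, nat_lit 1, nat_lit 4, nat_lit 3], [nat_lit 3, nat_lit 1, nat_lit 2, nat_lit 4, nat_lit 1, nat_lit 4], [nat_lit 1, nat_lit 4, nat_lit 3, nat_lit 1, nat_lit 2, nat_lit 4], [nat_lit 3, nat_lit 4, nat_lit 3, nat_lit 1, nat_lit 4, nat_lit 3, nat_lit 4], [nat_lit 2, nat_lit 4, nat_lit 1, nat_lit 2, nat_lit 4, nat_lit 2, nat_lit 4], [nat_lit 2, nat_lit 1, nat_lit 4, nat_lit 3, nat_lit 1, nat_lit 2, nat_lit 4, nat_lit 3], [nat_lit 4, nat_lit 3, nat_lit 4], [nat_lit 1, nat_lit 4, nat_lit 2, nat_lit 1, nat_lit 3, nat_lit 4, nat_lit 1], [nat_lit 2, nat_lit 1, nat_lit 3,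 nat_lit 4, nat_lit 2, nat_lit 1, nat_lit 3], [nat_lit 1], [nat_lit 2], [nat_lit 3], [nat_lit 4]]

def A : List (List ℕ) := [[nat_lit 0, nat_lit 0, nat_lit 0, nat_lit 0, nat_lit 0, nat_lit 0, nat_lit 0, nat_lit 0], [nat_lit 1, nat_lit 2, nat_lit 4, nat_lit 8, nat_lit 16, nat_lit 32, nat_lit 64, nat_lit 128], [nat_lit 1, nat_lit 2, nat_lit 4, nat_lit 8, nat_lit 16, nat_lit 32, nat_lit 64, nat_lit 128], [nat_lit 1, nat_lit 2, nat_lit 4, nat_lit 8, nat_lit 16, nat_lit 32, nat_lit 64, nat_lit 128], [nat_lit 1, nat_lit 2, nat_lit 4, nat_lit 8, nat_lit 16, nat_lit 32, nat_lit 64, nat_lit 128], [nat_lit 1, nat_lit 2, nat_lit 4, nat_lit 8, nat_lit 16, nat_lit 32, nat_lit 64, nat_lit 128], [nat_lit 1, nat_lit 2, nat_lit 4, nat_lit 8, nat_lit 16, nat_lit 32, nat_lit 64, nat_lit 128], [nat_lit 1, nat_lit 2, nat_lit 4, nat_lit 8, nat_lit 16, nat_lit 32, nat_lit 64, nat_lit 128], [nat_lit 1, nat_lit 2, nat_lit 4, nat_lit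 8, nat_lit 16, nat_lit 32, nat_lit 64, nat_lit 128], [nat_lit 118, nat_lit 2, nat_lit 124, nat_lit 182, nat_lit 127, nat_lit 239, nat_lit 92, nat_lit 132], [nat_lit 116, nat_lit 2, nat_lit 4, nat_lit 127, nat_lit 182, nat_lit 247, nat_lit 68, nat_lit 87], [nat_lit 106, nat_lit 24, nat_lit 95, nat_lit 178, nat_lit 176, nat_lit 128, nat_lit 43, nat_lit 32], [nat_lit 1, nat_lit 2, nat_lit 4, nat_lit 24, nat_lit 16, nat_lit 54, nat_lit 83, nat_lit 132], [nat_lit 1, nat_lit 118, nat_lit 8, nat_lit 248, nat_lit 124, nat_lit 162, nat_lit 95, nat_lit 16], [nat_lit 1, nat_lit 22, nat_lit 105, nat_lit 4, nat_lit 128, nat_lit 71, nat_lit 186, nat_lit 113], [nat_lit 2, nat_lit 1, nat_lit 127, nat_lit 16, nat_lit 8, nat_lit 64, nat_lit 32, nat_lit 182]]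

def M : List ICos := [([], [nat_lit 0, nat_lit 0, nat_lit 0, nat_lit 0, nat_lit 0, nat_lit 0, nat_lit 0, nat_lit 0, nat_lit 0, nat_lit 1, nat_lit 3, nat_lit 4], [nat_lit 0, nat_lit 0, nat_lit 0], [], 0, 0),
  ([nat_lit 9], [nat_lit 0, nat_lit 0, nat_lit 0, nat_lit 0, nat_lit 0, nat_lit 0, nat_lit 0, nat_lit 0, nat_lit 0, nat_lit 2, nat_lit 6, nat_lit 7], [nat_lit 0, nat_lit 0, nat_lit 0], [], 0, 0),
  ([nat_lit 9, nat_lit 9], [nat_lit 0, nat_lit 0, nat_lit 0, nat_lit 0, nat_lit 0, nat_lit 0, nat_lit 0, nat_lit 0, nat_lit 0, nat_lit 5, nat_lit 10, nat_lit 11], [nat_lit 0, nat_lit 0, nat_lit 0], [], 0, 1),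
  ([nat_lit 10], [nat_lit 0, nat_lit 0, nat_lit 0, nat_lit 0, nat_lit 0, nat_lit 0, nat_lit 0, nat_lit 0, nat_lit 0, nat_lit 8, nat_lit 0, nat_lit 13], [nat_lit 0, nat_lit 0, nat_lit 0], [], 0, 2),
  ([nat_lit 11], [nat_lit 0, nat_lit 0, nat_lit 0, nat_lit 0, nat_lit 0, nat_lit 0, nat_lit 0, nat_lit 0, nat_lit 0, nat_lit 9, nat_lit 14, nat_lit 0], [nat_lit 0, nat_lit 0, nat_lit 0], [nat_lit 13, nat_lit 9, nat_lit 13], 126, 1),
  ([nat_lit 9, nat_lit 9, nat_lit 9], [nat_lit 0, nat_lit 0, nat_lit 0, nat_lit 0, nat_lit 0, nat_lit 0, nat_lit 0, nat_lit 0, nat_lit 0, nat_lit 0, nat_lit 8, nat_lit 15], [nat_lit 2, nat_lit 203, nat_lit 0], [], 0, 0),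
  ([nat_lit 9, nat_lit 10], [nat_lit 0, nat_lit 0, nat_lit 0, nat_lit 0, nat_lit 0, nat_lit 0, nat_lit 0, nat_lit 0, nat_lit 0, nat_lit 3, nat_lit 1, nat_lit 17], [nat_lit 201, nat_lit 0, nat_lit 0], [nat_lit 15, nat_lit 12, nat_lit 13, nat_lit 12, nat_lit 15, nat_lit 12], 113, 1),
  ([nat_lit 9, nat_lit 11], [nat_lit 0, nat_lit 0, nat_lit 0, nat_lit 0, nat_lit 0, nat_lit 0, nat_lit 0, nat_lit 0, nat_lit 0, nat_lit 12, nat_lit 18, nat_lit 1], [nat_lit 0, nat_lit 0, nat_lit 0], [], 0, 0),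
  ([nat_lit 10, nat_lit 9], [nat_lit 0, nat_lit 0, nat_lit 0, nat_lit 0, nat_lit 0, nat_lit 0, nat_lit 0, nat_lit 0, nat_lit 0, nat_lit 10, nat_lit 5, nat_lit 19], [nat_lit 211, nat_lit 26, nat_lit 0], [nat_lit 12, nat_lit 14, nat_lit 12, nat_lit 13, nat_lit 12], 218, 1),
  ([nat_lit 11, nat_lit 9], [nat_lit 0, nat_lit 0, nat_lit 0, nat_lit 0, nat_lit 0, nat_lit 0, nat_lit 0, nat_lit 0, nat_lit 0, nat_lit 11, nat_lit 17, nat_lit 20], [nat_lit 144, nat_lit 160, nat_lit 0], [], 0, 0),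
  ([nat_lit 9, nat_lit 9, nat_lit 10], [nat_lit 0, nat_lit 0, nat_lit 0, nat_lit 0, nat_lit 0, nat_lit 0, nat_lit 0, nat_lit 0, nat_lit 0, nat_lit 6, nat_lit 2, nat_lit 23], [nat_lit 201, nat_lit 0, nat_lit 0], [nat_lit 9], 201, 2),
  ([nat_lit 9, nat_lit 9, nat_lit 11], [nat_lit 0, nat_lit 0, nat_lit 0, nat_lit 0, nat_lit 0, nat_lit 0, nat_lit 0, nat_lit 0, nat_lit 0, nat_lit 16, nat_lit 24, nat_lit 2], [nat_lit 0, nat_lit 0, nat_lit 0], [], 0, 3),
  ([nat_lit 9, nat_lit 11, nat_lit 9], [nat_lit 0, nat_lit 0, nat_lit 0, nat_lit 0, nat_lit 0, nat_lit 0, nat_lit 0, nat_lit 0, nat_lit 0, nat_lit 15, nat_lit 23, nat_lit 25], [nat_lit 144, nat_lit 160, nat_lit 0], [nat_lit 9], 144, 3),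
  ([nat_lit 10, nat_lit 11], [nat_lit 0, nat_lit 0, nat_lit 0, nat_lit 0, nat_lit 0, nat_lit 0, nat_lit 0, nat_lit 0, nat_lit 0, nat_lit 21, nat_lit 22, nat_lit 3], [nat_lit 0, nat_lit 105, nat_lit 0], [], 0, 0),
  ([nat_lit 11, nat_lit 10], [nat_lit 0, nat_lit 0, nat_lit 0, nat_lit 0, nat_lit 0, nat_lit 0, nat_lit 0, nat_lit 0, nat_lit 0, nat_lit 19, nat_lit 4, nat_lit 26], [nat_lit 251, nat_lit 0, nat_lit 0], [], 0, 0),
  ([nat_lit 9, nat_lit 9, nat_lit 9, nat_lit 11], [nat_lit 0, nat_lit 0, nat_lit 0, nat_lit 0, nat_lit 0, nat_lit 0, nat_lit 0, nat_lit 0, nat_lit 0, nat_lit 22, nat_lit 21, nat_lit 5], [nat_lit 0, nat_lit 107, nat_lit 0], [], 0, 0),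
  ([nat_lit 9, nat_lit 9, nat_lit 11, nat_lit 9], [nat_lit 0, nat_lit 0, nat_lit 0, nat_lit 0, nat_lit 0, nat_lit 0, nat_lit 0, nat_lit 0, nat_lit 0, nat_lit 4, nat_lit 19, nat_lit 27], [nat_lit 136, nat_lit 107, nat_lit 0], [], 0, 0),
  ([nat_lit 9, nat_lit 10, nat_lit 11], [nat_lit 0, nat_lit 0, nat_lit 0, nat_lit 0, nat_lit 0, nat_lit 0, nat_lit 0, nat_lit 0, nat_lit 0, nat_lit 14, nat_lit 9, nat_lit 6], [nat_lit 162, nat_lit 160, nat_lit 0], [nat_lit 14, nat_lit 15, nat_lit 13, nat_lit 12, nat_lit 13], 171, 1),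
  ([nat_lit 9, nat_lit 11, nat_lit 10], [nat_lit 0, nat_lit 0, nat_lit 0, nat_lit 0, nat_lit 0, nat_lit 0, nat_lit 0, nat_lit 0, nat_lit 0, nat_lit 13, nat_lit 7, nat_lit 28], [nat_lit 40, nat_lit 0, nat_lit 0], [nat_lit 15, nat_lit 13, nat_lit 12], 20, 3),
  ([nat_lit 10, nat_lit 9, nat_lit 11], [nat_lit 0, nat_lit 0, nat_lit 0, nat_lit 0, nat_lit 0, nat_lit 0, nat_lit 0, nat_lit 0, nat_lit 0, nat_lit 24, nat_lit 16, nat_lit 8], [nat_lit 184, nat_lit 186, nat_lit 0], [nat_lit 15, nat_lit 12], 106, 3),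
  ([nat_lit 11, nat_lit 9, nat_lit 11], [nat_lit 0, nat_lit 0, nat_lit 0, nat_lit 0, nat_lit 0, nat_lit 0, nat_lit 0, nat_lit 0, nat_lit 0, nat_lit 25, nat_lit 28, nat_lit 9], [nat_lit 65, nat_lit 113, nat_lit 0], [], 0, 0),
  ([nat_lit 10, nat_lit 11, nat_lit 9], [nat_lit 0, nat_lit 0, nat_lit 0, nat_lit 0, nat_lit 0, nat_lit 0, nat_lit 0, nat_lit 0, nat_lit 0, nat_lit 23, nat_lit 15, nat_lit 29], [nat_lit 89, nat_lit 186, nat_lit 0], [nat_lit 12, nat_lit 13, nat_lit 13, nat_lit 12, nat_lit 13], 249, 1),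
  ([nat_lit 9, nat_lit 9, nat_lit 9, nat_lit 11, nat_lit 9], [nat_lit 0, nat_lit 0, nat_lit 0, nat_lit 0, nat_lit 0, nat_lit 0, nat_lit 0, nat_lit 0, nat_lit 0, nat_lit 7, nat_lit 13, nat_lit 30], [nat_lit 136, nat_lit 184, nat_lit 0], [nat_lit 14, nat_lit 12, nat_lit 13, nat_lit 13, nat_lit 12], 164, 1),
  ([nat_lit 9, nat_lit 9, nat_lit 10, nat_lit 11], [nat_lit 0, nat_lit 0, nat_lit 0, nat_lit 0, nat_lit 0, nat_lit 0, nat_lit 0, nat_lit 0, nat_lit 0, nat_lit 18, nat_lit 12, nat_lit 10], [nat_lit 162, nat_lit 160, nat_lit 0], [], 0, 0),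
  ([nat_lit 9, nat_lit 9, nat_lit 11, nat_lit 10], [nat_lit 0, nat_lit 0, nat_lit 0, nat_lit 0, nat_lit 0, nat_lit 0, nat_lit 0, nat_lit 0, nat_lit 0, nat_lit 17, nat_lit 11, nat_lit 31], [nat_lit 40, nat_lit 0, nat_lit 0], [], 0, 0),
  ([nat_lit 9, nat_lit 11, nat_lit 9, nat_lit 11], [nat_lit 0, nat_lit 0, nat_lit 0, nat_lit 0, nat_lit 0, nat_lit 0, nat_lit 0, nat_lit 0, nat_lit 0, nat_lit 27, nat_lit 31, nat_lit 12], [nat_lit 65, nat_lit 113, nat_lit 0], [nat_lit 12, nat_lit 14, nat_lit 12, nat_lit 14, nat_lit 12, nat_lit 13], 50, 1),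
  ([nat_lit 11, nat_lit 10, nat_lit 11], [nat_lit 0, nat_lit 0, nat_lit 0, nat_lit 0, nat_lit 0, nat_lit 0, nat_lit 0, nat_lit 0, nat_lit 0, nat_lit 29, nat_lit 30, nat_lit 14], [nat_lit 42, nat_lit 162, nat_lit 0], [nat_lit 12, nat_lit 15, nat_lit 13, nat_lit 13], 117, 2),
  ([nat_lit 9, nat_lit 9, nat_lit 11, nat_lit 9, nat_lit 11], [nat_lit 0, nat_lit 0, nat_lit 0, nat_lit 0, nat_lit 0, nat_lit 0, nat_lit 0, nat_lit 0, nat_lit 0, nat_lit 30, nat_lit 29, nat_lit 16], [nat_lit 65, nat_lit 26, nat_lit 0], [], 0, 0),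
  ([nat_lit 9, nat_lit 11, nat_lit 10, nat_lit 11], [nat_lit 0, nat_lit 0, nat_lit 0, nat_lit 0, nat_lit 0, nat_lit 0, nat_lit 0, nat_lit 0, nat_lit 0, nat_lit 26, nat_lit 20, nat_lit 18], [nat_lit 146, nat_lit 113, nat_lit 0], [nat_lit 14], 213, 3),
  ([nat_lit 10, nat_lit 11, nat_lit 9, nat_lit 11], [nat_lit 0, nat_lit 0, nat_lit 0, nat_lit 0, nat_lit 0, nat_lit 0, nat_lit 0, nat_lit 0, nat_lit 0, nat_lit 31, nat_lit 27, nat_lit 21], [nat_lit 227, nat_lit 203, nat_lit 0], [nat_lit 13, nat_lit 15, nat_lit 12], 30, 3),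
  ([nat_lit 9, nat_lit 9, nat_lit 9, nat_lit 11, nat_lit 9, nat_lit 11], [nat_lit 0, nat_lit 0, nat_lit 0, nat_lit 0, nat_lit 0, nat_lit 0, nat_lit 0, nat_lit 0, nat_lit 0, nat_lit 20, nat_lit 26, nat_lit 22], [nat_lit 146, nat_lit 162, nat_lit 0], [nat_lit 14, nat_lit 12, nat_lit 13, nat_lit 12, nat_lit 13, nat_lit 12], 124, 1),
  ([nat_lit 9, nat_lit 9, nat_lit 11, nat_lit 10, nat_lit 11], [nat_lit 0, nat_lit 0, nat_lit 0, nat_lit 0, nat_lit 0, nat_lit 0, nat_lit 0, nat_lit 0, nat_lit 0, nat_lit 28, nat_lit 25, nat_lit 24], [nat_lit 146, nat_lit 113, nat_lit 0], [nat_lit 12, nat_lit 14, nat_lit 12], 40, 2)]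

noncomputable def Cs : List ICls := [([], 0, [([nat_lit 9], 0), ([nat_lit 11], 0), ([nat_lit 12], 0)], [(0, [], []), (1, [], [1,2,1,2,1,2,1,2,1,2,1,2,1,2,1,2,1,2,1,3,3,3]), (5, [], [1,3,1,3,1,2,1,2,1,3,1,3,1,2,1,2]), (12, [nat_lit 1, nat_lit 4, nat_lit 1, nat_lit 3, nat_lit 4, nat_lit 2], [1,2,4,2,4,3,3,3,4])], unp 252 (nat_lit 0x95000000dc0000009e020000a901000083000000ea0200005802000099010000c700000042020000a50100003d0200003d00000026020000fa010000560100004102000041000000c50000009402000067000000b10100006501000065000000ab00000087020000bc01000021010000ae00000029010000290000003401000034000000d40000006e000000eb0100008d0200006300000033010000e5020000b7020000b70100003802000038000000860000000f0200000f00000045000000e10000004e0200004e01000061000000f4020000cf020000cf010000cf000000620200006200000060020000600100000d0100000d00000037020000550100005500000022020000c3020000c30000005e0100005e000000a7010000a700000025020000250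000001e0200001e000000d6020000d600000082010000820000009f0100009f000000e00200008c0200008c000000640200006401000064000000b3010000b30000001d0200001d0100004602000046000000790100005d020000b5020000b5010000b5000000fc010000fc0000008b0200008b010000cd010000cd000000a1020000a10000006c0100006c0000001c0100001c000000ed020000ed000000ca020000ca010000ca0000000c0200000c0100000c000000ad0100005a020000da0000001b020000320100003f01000075010000c60200009602000096010000e3010000930200009c0200009c00000009000000bf0200004a0200004a0100005002000039010000d5020000d50000003c000000dd020000dd000000d800000024020000e7020000e700000015010000150000004c0100004c000000e2020000e20100007d0100007d0000001902000019000000f2020000f20000009b0200009b0100009b0000008e0100003a020000cb020000a8010000a8000000df020000df010000a6010000a60000004f0200004f000000680200006801000023010000230000009a0200009a0100001a000000aa020000aa000000b4020000b4010000b400000035020000350000000a02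00000a0100000a0000000501000005000000b000000047000000fe0200007e010000c9010000a40100005702000080010000770100007700000003000000ce0000007c000000a20200009d0100009d000000f8010000f80000006b0200006b0000001801000018000000b6020000b6010000f7020000f7000000840200007202000072010000720000002d02000069020000b8020000b80000005f0100005f000000e9020000e9010000a00000000802000008000000160100007f0100007f0000000701000073010000730000005c0200005c000000b2020000b2010000b20000006a0200006a000000760200007601000076000000010100000100)),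
  ([nat_lit 9, nat_lit 9], 2, [([nat_lit 1], 179), ([nat_lit 3], 2), ([nat_lit 4], 98), ([nat_lit 6], 169)], [(4, [nat_lit 2, nat_lit 1, nat_lit 2, nat_lit 4, nat_lit 1, nat_lit 2, nat_lit 2], [4])], unp 15 (nat_lit 0xd703000064030000d5030000b5030000b5020000660300000603000006020000b7030000b7020000b70100000403000004020000040100000400)),
  ([nat_lit 10], 0, [([nat_lit 1], 117), ([nat_lit 4], 119), ([nat_lit 5], 166), ([nat_lit 6], 215)], [(0, [nat_lit 1, nat_lit 4, nat_lit 2], [1])], unp 15 (nat_lit 0xa4030000d1030000d30300000203000002020000a603000077030000770200007503000075020000750100000003000000020000000100000000)),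
  ([nat_lit 9, nat_lit 9, nat_lit 11], 146, [([nat_lit 1], 9), ([nat_lit 2], 26), ([nat_lit 3], 67), ([nat_lit 6], 216)], [(37, [nat_lit 2, nat_lit 4, nat_lit 3, nat_lit 4, nat_lit 3], [1,3,4,1,3,4,1,3,4])], unp 15 (nat_lit 0x750300007c0300006f0300003603000036020000660300003f0300003f0200002c0300002c0200002c0100002503000025020000250100002500))]

def Reps : List (List ℕ) := [[], [1,2,1,2,1,2,1,2,1,2,1,2,1,2,1,2,1,2,1,3,3,3], [1], [4], [1,3,1,3,1,2,1,2,1,3,1,3,1,2,1,2], [1,2,4,2,4,3,3,3,4], [1,3,4,1,3,4,1,3,4]]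

noncomputable def chk : List ℕ → Bool := fixB HNR.N.img 5 HNR.N.bs

end Cfsg.H6.HNR.NI
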