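import Cfsg.Agent.H6.HNR.NI.K0
import Cfsg.Agent.H6.HNR.NI.K1
import Cfsg.Agent.H6.HNR.NI.K2
import Cfsg.Agent.H6.HNR.NI.K3

set_option autoImplicit false
set_option maxRecDepth 100000
set_option Elab.async false

namespace Cfsg.H6.HNR.NI

def TX : List (List ℕ) := (List.range (8 + 3)).map fun l => [l + 1]

def lV0 : List (List ℕ) := [[nat_lit 9], [nat_lit 1], [nat_lit 10], [nat_lit 11]]

theorem l0 : lvlChk HNR.N.img 120 5 [] (0, lV0.map (subst sg), unp 63 (nat_lit 0x2000000056000000710000006b00000063000000260000003b0000002a0300005b000000190000005d000000530000002d0000001b00000034000000550300003900000045000000570000002a010000370000002f0000002a0000001d02000021000000620000005c0000004d0000005e000000650000000e0000004e030000010000002300000069000000490000006c0000000500000064000000580300003f000000520000003d0000000a01000076000000550000001d00000000030000740000001500000014000000700100001a000000700000004e00000000020000480000006a0000006e0000005401000054000000580000000000)) = true := by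
  decide +kernel

def lV1 : List (List ℕ) := [[nat_lit 2]]

theorem l1 : lvlChk HNR.N.img 120 5 [0] (1, lV1.map (subst sg), unp 1 (nat_lit 0x100)) = true := by
  decide +kernel

def lV2 : List (List ℕ) := [[nat_lit 1]]

theorem l2 : lvlChk HNR.N.img 120 5 [1,0] (2, lV2.map (subst sg), unp 1 (nat_lit 0x200)) = true := by
  decide +kernel

def lV3 : List (List ℕ) := [[nat_lit 4]]

theorem l3 : lvlChk HNR.N.img 120 5 [2,1,0] (3, lV3.map (subst sg), unp 1 (nat_lit 0x300)) = true := by
  decide +kernel

def lV4 : List (List ℕ) := [[nat_lit 9, nat_lit 9, nat_lit 9, nat_lit 9, nat_lit 9, nat_lit 9, nat_lit 9, nat_lit 1, nat_lit 9]]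

theorem l4 : lvlChk HNR.N.img 120 5 [3,2,1,0] (4, lV4.map (subst sg), unp 1 (nat_lit 0x400)) = true := by
  decide +kernel

def lV5 : List (List ℕ) := [[nat_lit 3]]

theorem l5 : lvlChk HNR.N.img 120 5 [4,3,2,1,0] (5, lV5.map (subst sg), unp 1 (nat_lit 0x500)) = true := by
  decide +kernel

def lV6 : List (List ℕ) := [[nat_lit 8]]

theorem l6 : lvlChk HNR.N.img 120 5 [5,4,3,2,1,0] (6, lV6.map (subst sg), unp 1 (nat_lit 0x600)) = true := by
  decide +kernel

def lV7 : List (List ℕ) := [[nat_lit 9, nat_lit 9, nat_lit 9, nat_lit 9, nat_lit 9, nat_lit 9, nat_lit 9, nat_lit 5, nat_lit 9, nat_lit 5]]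

theorem l7 : lvlChk HNR.N.img 120 5 [6,5,4,3,2,1,0] (11, lV7.map (subst sg), unp 1 (nat_lit 0xb00)) = true := by
  decide +kernel

theorem classes {x : HNR.N.Grp} (hx : x * x = 1) : ∃ w ∈ Reps, IsConj x (evL HNR.N.ev w) := by
  have := HNR.N.finite
  have lb : LBn HNR.N.φ (gen (evS HNR.N.ev sg) TX) 120 [11,6,5,4,3,2,1,0] 8192 := LBn.cast (((((((((LBn.nil HNR.N.φ _ 120).stepU HNR.N.hφ (mem_subst (mem_of_letChk (E := lV0) (by decide +kernel))) l0).stepU HNR.N.hφ (mem_subst (mem_of_letChk (E := lV1) (by decide +kernel))) l1).stepU HNR.N.hφ (mem_subst (mem_of_letChk (E := lV2) (by decide +kernel))) l2).stepU HNR.N.hφ (mem_subst (mem_of_letChk (E := lV3) (by decide +kernel))) l3).stepU HNR.N.hφ (mem_subst (mem_of_letChk (E := lV4) (by decide +kernel))) l4).stepU HNR.N.hφ (mem_subst (mem_of_letChk (E := lV5) (by decide +kernel))) l5).stepU HNR.N.hφ (mem_subst (mem_of_letChk (E := lV6) (by decide +kernel))) l6).stepU HNR.N.hφ (mem_subst (mem_of_letChk (E := lV7) (by decide +kernel))) l7) (by decide +kernel)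
  refine inv_classes HNR.N.hev HNR.N.main.2.2 (chk := chk) (M := M) (Cs := Cs) (s := 3) ea (fun x h1 h2 => ?_)
    (fun i hi => (range_join (range_join (allR_range co0 (by norm_num : 0 + 8 = 8)) (allR_range co1 (by norm_num : 8 + 8 = 16))) (range_join (allR_range co2 (by norm_num : 16 + 8 = 24)) (allR_range co3 (by norm_num : 24 + 8 = 32)))) i (Nat.zero_le _) hi) (List.all_eq_true.mp cl) (by decide +kernel) lb.1.le_card
    (o := 225) (by decide) HNR.N.main.1 hx
  change x < 16 at h2
  interval_cases x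
  exacts [li1, li2, li3, li4, li5, li6, li7, li8, li9, li10, li11, li12, li13, li14, li15]

end Cfsg.H6.HNR.NI
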